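import Mathlib
import Cfsg.Agent.Lib.Helper89.TV.Main

set_option autoImplicit false
set_option linter.unusedSimpArgs false

namespace Cfsg.Agent.Helper89.AGL

open Matrix Cfsg.Agent.Helper63 Cfsg.Agent.Helper89.TV

variable {n : ℕ}

abbrev Mn (n : ℕ) := Matrix (Fin (n + 1)) (Fin (n + 1)) (ZMod 2)
abbrev Wn (n : ℕ) := Fin (n + 1) → ZMod 2

/-- The affine matrix with linear part `A` (on the indices `0, mid k`) and translation part `x`
(in column `1`). -/
def aff (A : Mn n) (x : Wn n) : Mx n :=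
  mk9 (A 0 0) (x 0) (fun l => A 0 l.succ) 0 1 0 (fun k => A k.succ 0) (fun k => x k.succ)
    (Matrix.of fun k l => A k.succ l.succ)

/-- Linear part of an affine matrix. -/
def Aof (h : Mx n) : Mn n :=
  Matrix.of (Fin.cons (Fin.cons (h 0 0) (fun l => h 0 (mid l)) : Fin (n + 1) → ZMod 2)
    (fun k => (Fin.cons (h (mid k) 0) (fun l => h (mid k) (mid l)) : Fin (n + 1) → ZMod 2)))

/-- Translation part of an affine matrix. -/
def xof (h : Mx n) : Wn n := Fin.cons (h 0 1) (fun k => h (mid k) 1)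

@[simp] theorem Aof_00 (h : Mx n) : Aof h 0 0 = h 0 0 := rfl
@[simp] theorem Aof_0s (h : Mx n) (l : Fin n) : Aof h 0 l.succ = h 0 (mid l) := rfl
@[simp] theorem Aof_s0 (h : Mx n) (k : Fin n) : Aof h k.succ 0 = h (mid k) 0 := rfl
@[simp] theorem Aof_ss (h : Mx n) (k l : Fin n) : Aof h k.succ l.succ = h (mid k) (mid l) := rfl
@[simp] theorem xof_0 (h : Mx n) : xof h 0 = h 0 1 := rfl
@[simp] theorem xof_s (h : Mx n) (k : Fin n) : xof h k.succ = h (mid k) 1 := rfl

theorem Aof_aff (A : Mn n) (x : Wn n) : Aof (aff A x) = A := by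
  ext i j
  refine Fin.cases ?_ (fun k => ?_) i <;> refine Fin.cases ?_ (fun l => ?_) j <;> simp [aff]

theorem xof_aff (A : Mn n) (x : Wn n) : xof (aff A x) = x := by
  ext i
  refine Fin.cases ?_ (fun k => ?_) i <;> simp [aff]

theorem aff_of_row1 {h : Mx n} (hr : Row1 h) : aff (Aof h) (xof h) = h := by
  apply ext9 <;> intros <;> simp [aff, hr.1, hr.2.1, hr.2.2]

theorem row1_aff (A : Mn n) (x : Wn n) : Row1 (aff A x) := by
  refine ⟨?_, ?_, fun l => ?_⟩ <;> simp [aff]

theorem aff_mul (A A' : Mn n) (x x' : Wn n) :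
    aff A x * aff A' x' = aff (A * A') (x + A *ᵥ x') := by
  apply ext9 <;> intros <;> rw [mul_apply3] <;>
    simp [aff, Matrix.mul_apply, Matrix.mulVec, dotProduct, Fin.sum_univ_succ] <;> ring

theorem aff_one : aff (1 : Mn n) 0 = 1 := by
  apply ext9 <;> intros <;>
    simp [aff, one_00, one_01, one_0m, one_10, one_11, one_1m, one_m0, one_m1, one_mm,
      Matrix.one_apply, Fin.succ_ne_zero, (Fin.succ_ne_zero _).symm, mid_ne_zero, mid_ne_one,
      zero_ne_mid, one_ne_mid, TV.zero_ne_one', TV.zero_ne_one'.symm]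

theorem aff_inj {A A' : Mn n} {x x' : Wn n} (h : aff A x = aff A' x') : A = A' ∧ x = x' := by
  constructor
  · rw [← Aof_aff A x, h, Aof_aff]
  · rw [← xof_aff A x, h, xof_aff]

theorem aff_z : aff (1 : Mn n) (Pi.single 0 1) = Matrix.transvection 0 1 1 := by
  rw [← qmat_z]
  apply ext9 <;> intros <;>
    simp [aff, qmat, Matrix.one_apply, Fin.succ_ne_zero, (Fin.succ_ne_zero _).symm]

end Cfsg.Agent.Helper89.AGL
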