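import Mathlib
import Cfsg.Agent.S0839

set_option autoImplicit false

namespace Cfsg.Agent.Helper89.AGL

/-- Additive coordinates on a finite elementary abelian 2-group. -/
theorem exists_coord' {V : Type*} [Group V] [Finite V] (hc : ∀ a b : V, a * b = b * a)
    (h2 : ∀ a : V, a ^ 2 = 1) (m : ℕ) (hcard : Nat.card V = 2 ^ m) :
    ∃ ξ : V ≃ (Fin m → ZMod 2), ∀ a b, ξ (a * b) = ξ a + ξ b := by
  let _i1 : CommGroup V := { (inferInstance : Group V) with mul_comm := hc }
  let _i2 : Module (ZMod 2) (Additive V) :=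
    AddCommGroup.zmodModule (n := 2) (G := Additive V) (fun x => by
      induction x using Additive.rec with
      | ofMul a => rw [← ofMul_pow, h2 a]; rfl)
  have hfr : Module.finrank (ZMod 2) (Additive V) = m := by
    have : Fintype (Additive V) := Fintype.ofFinite _
    have h := Module.card_eq_pow_finrank (K := ZMod 2) (V := Additive V)
    have hcard' : Nat.card (Additive V) = 2 ^ m := hcard
    rw [ZMod.card, ← Nat.card_eq_fintype_card, hcard'] at h
    exact (Nat.pow_right_injective (le_refl 2) h).symm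
  let b := Module.finBasisOfFinrankEq (ZMod 2) (Additive V) hfr
  refine ⟨Additive.ofMul.trans b.equivFun.toEquiv, fun a b' => ?_⟩
  show b.equivFun (Additive.ofMul (a * b')) = _
  rw [ofMul_mul, map_add]
  rfl

/-- Additive coordinates in which a given non-identity element is the first basis vector. -/
theorem exists_coord {V : Type*} [Group V] [Finite V] (hc : ∀ a b : V, a * b = b * a)
    (h2 : ∀ a : V, a ^ 2 = 1) (m : ℕ) (hcard : Nat.card V = 2 ^ (m + 1)) (z : V) (hz : z ≠ 1) :
    ∃ ξ : V ≃ (Fin (m + 1) → ZMod 2), (∀ a b, ξ (a * b) = ξ a + ξ b) ∧ ξ z = Pi.single 0 1 := by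
  obtain ⟨ξ', hξ'⟩ := exists_coord' hc h2 (m + 1) hcard
  have h1 : ξ' 1 = 0 := by
    have := hξ' 1 1
    rw [mul_one] at this
    exact left_eq_add.mp this
  have hv : ξ' z ≠ 0 := fun h => hz (ξ'.injective (h.trans h1.symm))
  have he : (Pi.single 0 1 : Fin (m + 1) → ZMod 2) ≠ 0 := by
    intro h
    have := congrFun h 0
    simp at this
  obtain ⟨g, μ, hμ, hg⟩ := Cfsg.Agent.S0839.exists_SL_mulVec (ξ' z) (Pi.single 0 1) hv he
  have hμ1 : μ = 1 := by
    have key : ∀ a : ZMod 2, a ≠ 0 → a = 1 := by decide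
    exact key μ hμ
  rw [hμ1, one_smul] at hg
  let e : (Fin (m + 1) → ZMod 2) ≃ (Fin (m + 1) → ZMod 2) :=
    { toFun := fun x => (g : Matrix (Fin (m + 1)) (Fin (m + 1)) (ZMod 2)).mulVec x
      invFun := fun x => ((g⁻¹ : Matrix.SpecialLinearGroup (Fin (m + 1)) (ZMod 2)) :
        Matrix (Fin (m + 1)) (Fin (m + 1)) (ZMod 2)).mulVec x
      left_inv := fun x => by
        show Matrix.mulVec _ (Matrix.mulVec _ x) = x
        rw [Matrix.mulVec_mulVec, ← Matrix.SpecialLinearGroup.coe_mul, inv_mul_cancel,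
          Matrix.SpecialLinearGroup.coe_one, Matrix.one_mulVec]
      right_inv := fun x => by
        show Matrix.mulVec _ (Matrix.mulVec _ x) = x
        rw [Matrix.mulVec_mulVec, ← Matrix.SpecialLinearGroup.coe_mul, mul_inv_cancel,
          Matrix.SpecialLinearGroup.coe_one, Matrix.one_mulVec] }
  refine ⟨ξ'.trans e, fun a b => ?_, hg⟩
  show (g : Matrix (Fin (m + 1)) (Fin (m + 1)) (ZMod 2)).mulVec (ξ' (a * b)) = _
  rw [hξ', Matrix.mulVec_add]
  rfl

end Cfsg.Agent.Helper89.AGL
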