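import Mathlib
import Cfsg.Agent.Lib.Helper89.AGL.Aff
import Cfsg.Agent.Lib.Helper89.AGL.Coord

set_option autoImplicit false
set_option linter.unusedSimpArgs false
set_option linter.unusedSectionVars false

namespace Cfsg.Agent.Helper89.AGL

open Matrix Cfsg.Agent.Helper89.TV

variable {G : Type*} [Group G] {n : ℕ}

/-- Additive coordinates on a subgroup `U`. -/
structure Coord (U : Subgroup G) (n : ℕ) where
  e : ↥U ≃ Wn n
  map_mul : ∀ a b, e (a * b) = e a + e b

namespace Coord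

variable {U : Subgroup G} (c : Coord U n)

theorem map_one : c.e 1 = 0 := by
  have := c.map_mul 1 1
  rw [mul_one] at this
  exact left_eq_add.mp this

theorem symm_add (x y : Wn n) : c.e.symm (x + y) = c.e.symm x * c.e.symm y := by
  apply c.e.injective
  rw [c.map_mul]
  simp

theorem symm_zero : c.e.symm 0 = 1 := by
  apply c.e.injective
  rw [c.map_one]
  simp

variable [U.Normal]

/-- The linear action of `g` on coordinates. -/
def actL (g : G) : Wn n →ₗ[ZMod 2] Wn n :=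
  AddMonoidHom.toZModLinearMap 2
    (AddMonoidHom.mk' (fun x => c.e (MulAut.conjNormal g (c.e.symm x)))
      (fun x y => by rw [c.symm_add, _root_.map_mul, c.map_mul]))

theorem actL_apply (g : G) (x : Wn n) :
    c.actL g x = c.e (MulAut.conjNormal g (c.e.symm x)) := rfl

/-- The matrix of the action of `g` on `U`. -/
def matG (g : G) : Mn n := LinearMap.toMatrix' (c.actL g)

theorem matG_mulVec (g : G) (x : Wn n) :
    c.matG g *ᵥ x = c.e (MulAut.conjNormal g (c.e.symm x)) := by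
  rw [matG, ← Matrix.toLin'_apply, Matrix.toLin'_toMatrix', actL_apply]

theorem matG_mulVec' (g : G) (u : ↥U) : c.matG g *ᵥ c.e u = c.e (MulAut.conjNormal g u) := by
  rw [matG_mulVec, Equiv.symm_apply_apply]

theorem matG_mul (g h : G) : c.matG (g * h) = c.matG g * c.matG h := by
  rw [matG, matG, matG, ← LinearMap.toMatrix'_comp]
  congr 1
  apply LinearMap.ext
  intro x
  simp only [LinearMap.comp_apply, actL_apply, _root_.map_mul, MulAut.mul_apply,
    Equiv.symm_apply_apply]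

theorem matG_of_mem (hU : ∀ a b : ↥U, a * b = b * a) {u : G} (hu : u ∈ U) : c.matG u = 1 := by
  rw [matG, ← LinearMap.toMatrix'_id]
  congr 1
  apply LinearMap.ext
  intro x
  rw [actL_apply, LinearMap.id_apply]
  have : MulAut.conjNormal u (c.e.symm x) = c.e.symm x := by
    apply Subtype.ext
    rw [MulAut.conjNormal_apply]
    have h := congrArg Subtype.val (hU ⟨u, hu⟩ (c.e.symm x))
    simp only [Subgroup.coe_mul] at h
    rw [h]
    group
  rw [this]
  simp

theorem matG_one : c.matG (1 : G) = 1 := by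
  rw [matG, ← LinearMap.toMatrix'_id]
  congr 1
  apply LinearMap.ext
  intro x
  rw [actL_apply, LinearMap.id_apply, _root_.map_one]
  simp

end Coord

theorem eq_of_mulVec {A B : Mn n} (h : ∀ x, A *ᵥ x = B *ᵥ x) : A = B := by
  apply Matrix.toLin'.injective
  apply LinearMap.ext
  intro x
  rw [Matrix.toLin'_apply, Matrix.toLin'_apply, h]

/-- The abstract affine-group setup. -/
structure Setup (G : Type*) [Group G] (n : ℕ) where
  U : Subgroup G
  M : Subgroup G
  normal : U.Normal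
  comm : ∀ a b : ↥U, a * b = b * a
  inf : U ⊓ M = ⊥
  sup : U ⊔ M = ⊤
  c : Coord U n
  faith : ∀ m ∈ M, (∀ u ∈ U, m * u * m⁻¹ = u) → m = 1
  full : ∀ φ : ↥U ≃* ↥U, ∃ m ∈ M, ∀ u : ↥U, ((φ u : ↥U) : G) = m * u * m⁻¹

attribute [instance] Setup.normal

namespace Setup

variable (S : Setup G n)

theorem exists_decomp (g : G) : ∃ u ∈ S.U, ∃ m ∈ S.M, g = u * m := by
  have hg : g ∈ S.U ⊔ S.M := by rw [S.sup]; trivial
  rw [← SetLike.mem_coe, Subgroup.normal_mul] at hg
  obtain ⟨u, hu, m, hm, rfl⟩ := Set.mem_mul.mp hg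
  exact ⟨u, hu, m, hm, rfl⟩

noncomputable def uPart (g : G) : G := (S.exists_decomp g).choose

noncomputable def mPart (g : G) : G := (S.exists_decomp g).choose_spec.2.choose

theorem uPart_mem (g : G) : S.uPart g ∈ S.U := (S.exists_decomp g).choose_spec.1

theorem mPart_mem (g : G) : S.mPart g ∈ S.M := (S.exists_decomp g).choose_spec.2.choose_spec.1

theorem decomp_eq (g : G) : g = S.uPart g * S.mPart g :=
  (S.exists_decomp g).choose_spec.2.choose_spec.2

theorem decomp_unique {u u' m m' : G} (hu : u ∈ S.U) (hu' : u' ∈ S.U) (hm : m ∈ S.M)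
    (hm' : m' ∈ S.M) (h : u * m = u' * m') : u = u' ∧ m = m' := by
  have h1 : u'⁻¹ * u = m' * m⁻¹ := by
    rw [eq_mul_inv_iff_mul_eq, mul_assoc, h]
    group
  have h2 : u'⁻¹ * u ∈ S.U ⊓ S.M :=
    ⟨S.U.mul_mem (S.U.inv_mem hu') hu, by rw [h1]; exact S.M.mul_mem hm' (S.M.inv_mem hm)⟩
  rw [S.inf, Subgroup.mem_bot, inv_mul_eq_one] at h2
  subst h2
  exact ⟨rfl, mul_left_cancel h⟩

theorem uPart_eq {g u m : G} (hu : u ∈ S.U) (hm : m ∈ S.M) (h : g = u * m) :
    S.uPart g = u ∧ S.mPart g = m :=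
  S.decomp_unique (S.uPart_mem g) hu (S.mPart_mem g) hm ((S.decomp_eq g).symm.trans h)

theorem matG_eq_mPart (g : G) : S.c.matG g = S.c.matG (S.mPart g) := by
  conv_lhs => rw [S.decomp_eq g]
  rw [S.c.matG_mul, S.c.matG_of_mem S.comm (S.uPart_mem g), one_mul]

/-- The matrix of `g` in the affine representation. -/
noncomputable def ΦM (g : G) : Mx n := aff (S.c.matG g) (S.c.e ⟨S.uPart g, S.uPart_mem g⟩)

theorem ΦM_mul (g h : G) : S.ΦM (g * h) = S.ΦM g * S.ΦM h := by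
  have hmem : S.mPart g * S.uPart h * (S.mPart g)⁻¹ ∈ S.U :=
    S.normal.conj_mem _ (S.uPart_mem h) _
  have e : g * h = (S.uPart g * (S.mPart g * S.uPart h * (S.mPart g)⁻¹)) *
      (S.mPart g * S.mPart h) := by
    conv_lhs => rw [S.decomp_eq g, S.decomp_eq h]
    group
  obtain ⟨e1, -⟩ := S.uPart_eq (S.U.mul_mem (S.uPart_mem g) hmem)
    (S.M.mul_mem (S.mPart_mem g) (S.mPart_mem h)) e
  rw [ΦM, ΦM, ΦM, aff_mul, S.c.matG_mul]
  congr 1
  have e2 : (⟨S.uPart (g * h), S.uPart_mem (g * h)⟩ : ↥S.U) =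
      ⟨S.uPart g, S.uPart_mem g⟩ *
        MulAut.conjNormal (S.mPart g) ⟨S.uPart h, S.uPart_mem h⟩ := by
    apply Subtype.ext
    rw [Subgroup.coe_mul, MulAut.conjNormal_apply]
    exact e1
  rw [e2, S.c.map_mul, S.matG_eq_mPart g, S.c.matG_mulVec']

theorem uPart_one : S.uPart (1 : G) = 1 :=
  (S.uPart_eq (g := 1) S.U.one_mem S.M.one_mem (by rw [mul_one])).1

theorem ΦM_one : S.ΦM (1 : G) = 1 := by
  rw [ΦM, S.c.matG_one]
  have : (⟨S.uPart (1 : G), S.uPart_mem 1⟩ : ↥S.U) = 1 := Subtype.ext S.uPart_one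
  rw [this, S.c.map_one, aff_one]

theorem det_ΦM (g : G) : (S.ΦM g).det = 1 := by
  apply zmod2_eq_one_of_mul _ (S.ΦM g⁻¹).det
  rw [← Matrix.det_mul, ← S.ΦM_mul, mul_inv_cancel, S.ΦM_one, Matrix.det_one]

/-- The affine representation of `G` in `SL_{n+2}(2)`. -/
noncomputable def Φ : G →* SLx n where
  toFun g := ⟨S.ΦM g, S.det_ΦM g⟩
  map_one' := Subtype.ext S.ΦM_one
  map_mul' g h := Subtype.ext (S.ΦM_mul g h)

@[simp] theorem Φ_coe (g : G) : ((S.Φ g : SLx n) : Mx n) = S.ΦM g := rfl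

theorem Φ_injective : Function.Injective S.Φ := by
  rw [injective_iff_map_eq_one]
  intro g hg
  have h1 : S.ΦM g = aff 1 0 := by
    rw [aff_one]
    exact congrArg Subtype.val hg
  obtain ⟨hA, hx⟩ := aff_inj h1
  have hu : S.uPart g = 1 := by
    have h2 : (⟨S.uPart g, S.uPart_mem g⟩ : ↥S.U) = 1 := by
      apply S.c.e.injective
      rw [hx, S.c.map_one]
    exact congrArg Subtype.val h2
  have hgm : g = S.mPart g := by
    conv_lhs => rw [S.decomp_eq g, hu, one_mul]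
  have hgM : g ∈ S.M := by rw [hgm]; exact S.mPart_mem g
  apply S.faith g hgM
  intro u hu'
  have h3 := S.c.matG_mulVec' g ⟨u, hu'⟩
  rw [hA, Matrix.one_mulVec] at h3
  have h4 := congrArg Subtype.val (S.c.e.injective h3)
  rw [MulAut.conjNormal_apply] at h4
  exact h4.symm

theorem Φ_surj (h : SLx n) (hr : Row1 (h : Mx n)) (hr' : Row1 ((h⁻¹ : SLx n) : Mx n)) :
    ∃ g, S.Φ g = h := by
  set A := Aof (h : Mx n) with hA
  set A' := Aof ((h⁻¹ : SLx n) : Mx n) with hA'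
  set x := xof (h : Mx n) with hx
  have e1 : aff A x = (h : Mx n) := aff_of_row1 hr
  have e2 : aff A' (xof ((h⁻¹ : SLx n) : Mx n)) = ((h⁻¹ : SLx n) : Mx n) := aff_of_row1 hr'
  have hAA' : A * A' = 1 := by
    have : aff A x * aff A' (xof ((h⁻¹ : SLx n) : Mx n)) = aff 1 0 := by
      rw [e1, e2, ← Matrix.SpecialLinearGroup.coe_mul, mul_inv_cancel, aff_one]
      rfl
    rw [aff_mul] at this
    exact (aff_inj this).1
  have hA'A : A' * A = 1 := by
    have : aff A' (xof ((h⁻¹ : SLx n) : Mx n)) * aff A x = aff 1 0 := by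
      rw [e1, e2, ← Matrix.SpecialLinearGroup.coe_mul, inv_mul_cancel, aff_one]
      rfl
    rw [aff_mul] at this
    exact (aff_inj this).1
  let φ : ↥S.U ≃* ↥S.U :=
    { toFun := fun u => S.c.e.symm (A *ᵥ S.c.e u)
      invFun := fun u => S.c.e.symm (A' *ᵥ S.c.e u)
      left_inv := fun u => by
        show S.c.e.symm (A' *ᵥ S.c.e (S.c.e.symm (A *ᵥ S.c.e u))) = u
        rw [Equiv.apply_symm_apply, Matrix.mulVec_mulVec, hA'A, Matrix.one_mulVec,
          Equiv.symm_apply_apply]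
      right_inv := fun u => by
        show S.c.e.symm (A *ᵥ S.c.e (S.c.e.symm (A' *ᵥ S.c.e u))) = u
        rw [Equiv.apply_symm_apply, Matrix.mulVec_mulVec, hAA', Matrix.one_mulVec,
          Equiv.symm_apply_apply]
      map_mul' := fun a b => by
        show S.c.e.symm (A *ᵥ S.c.e (a * b)) = S.c.e.symm (A *ᵥ S.c.e a) * S.c.e.symm (A *ᵥ S.c.e b)
        rw [S.c.map_mul, Matrix.mulVec_add, S.c.symm_add] }
  obtain ⟨m, hm, hφ⟩ := S.full φ
  have hmat : S.c.matG m = A := by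
    apply eq_of_mulVec
    intro y
    rw [S.c.matG_mulVec]
    have : MulAut.conjNormal m (S.c.e.symm y) = φ (S.c.e.symm y) := by
      apply Subtype.ext
      rw [MulAut.conjNormal_apply, hφ]
    rw [this]
    show S.c.e (S.c.e.symm (A *ᵥ S.c.e (S.c.e.symm y))) = _
    rw [Equiv.apply_symm_apply, Equiv.apply_symm_apply]
  refine ⟨(S.c.e.symm x : G) * m, ?_⟩
  apply Subtype.ext
  rw [Φ_coe, ← e1, ΦM]
  obtain ⟨eu, em⟩ := S.uPart_eq (g := (S.c.e.symm x : G) * m) (S.c.e.symm x).2 hm rfl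
  have e3 : (⟨S.uPart ((S.c.e.symm x : G) * m), S.uPart_mem _⟩ : ↥S.U) = S.c.e.symm x :=
    Subtype.ext eu
  rw [e3, Equiv.apply_symm_apply, S.matG_eq_mPart, em, hmat]

theorem ΦM_of_mem {u : G} (hu : u ∈ S.U) : S.ΦM u = aff 1 (S.c.e ⟨u, hu⟩) := by
  rw [ΦM, S.c.matG_of_mem S.comm hu]
  obtain ⟨eu, -⟩ := S.uPart_eq (g := u) hu S.M.one_mem (mul_one u).symm
  have e3 : (⟨S.uPart u, S.uPart_mem _⟩ : ↥S.U) = ⟨u, hu⟩ := Subtype.ext eu
  rw [e3]

theorem Φ_z {z : G} (hz : z ∈ S.U) (hz1 : S.c.e ⟨z, hz⟩ = Pi.single 0 1) :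
    ((S.Φ z : SLx n) : Mx n) = Matrix.transvection 0 1 1 := by
  rw [Φ_coe, S.ΦM_of_mem hz, hz1, aff_z]

theorem map_centralizer {z : G} (hz : z ∈ S.U) (hz1 : S.c.e ⟨z, hz⟩ = Pi.single 0 1) :
    (Subgroup.centralizer ({z} : Set G)).map S.Φ =
      Subgroup.centralizer ({S.Φ z} : Set (SLx n)) := by
  apply le_antisymm
  · rintro _ ⟨g, hg, rfl⟩
    rw [SetLike.mem_coe] at hg
    rw [Subgroup.mem_centralizer_singleton_iff] at hg ⊢
    rw [← _root_.map_mul, ← _root_.map_mul, hg]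
  · intro h hh
    have hh' : h⁻¹ ∈ Subgroup.centralizer ({S.Φ z} : Set (SLx n)) := Subgroup.inv_mem _ hh
    obtain ⟨g, rfl⟩ := S.Φ_surj h ((mem_C_iff _ (S.Φ_z hz hz1) h).mp hh).2
      ((mem_C_iff _ (S.Φ_z hz hz1) h⁻¹).mp hh').2
    refine ⟨g, ?_, rfl⟩
    rw [SetLike.mem_coe]
    rw [Subgroup.mem_centralizer_singleton_iff] at hh ⊢
    apply S.Φ_injective
    rw [_root_.map_mul, _root_.map_mul, hh]

end Setup

end Cfsg.Agent.Helper89.AGL
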