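import Mathlib
import Cfsg.Agent.Lib.Helper89.AGL.Act
import Cfsg.Agent.S4089
import Cfsg.Agent.S5420

set_option autoImplicit false
set_option linter.unusedSimpArgs false
set_option linter.unusedSectionVars false

namespace Cfsg.Agent.Helper89.AGL

open Matrix Cfsg.Agent.Helper89.TV Cfsg.Agent.Helper63

/-- `O_p` of a subgroup transfers along an injective homomorphism. -/
theorem map_pcOf {G H : Type*} [Group G] [Group H] [Finite G] [Finite H] {p : ℕ} [Fact p.Prime]
    (f : G →* H) (hf : Function.Injective f) (Y : Subgroup G) :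
    ((Cfsg.pCore p ↥Y).map Y.subtype).map f =
      (Cfsg.pCore p ↥(Y.map f)).map (Y.map f).subtype := by
  apply le_antisymm
  · apply Cfsg.Agent.S4089.le_pcOf
    · apply Subgroup.map_mono
      rintro _ ⟨x, -, rfl⟩
      exact x.2
    · refine le_trans (Subgroup.map_mono (Cfsg.Agent.S4089.le_normalizer_pcOf (p := p) Y)) ?_
      exact Subgroup.le_normalizer_map f
    · exact (Cfsg.Agent.S4089.isPGroup_pcOf Y).map f
  · set D' := ((Cfsg.pCore p ↥(Y.map f)).map (Y.map f).subtype).comap f with hD'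
    have hle : (Cfsg.pCore p ↥(Y.map f)).map (Y.map f).subtype ≤ Y.map f := by
      rintro _ ⟨x, -, rfl⟩
      exact x.2
    have h1 : D' ≤ Y := by
      intro x hx
      obtain ⟨c, hc, hcx⟩ := hle (Subgroup.mem_comap.mp hx)
      rw [← hf hcx]
      exact hc
    have h2 : Y ≤ Subgroup.normalizer (D' : Set G) := by
      refine le_trans ?_ (Subgroup.le_normalizer_comap f)
      intro y hy
      rw [Subgroup.mem_comap]
      exact Cfsg.Agent.S4089.le_normalizer_pcOf (p := p) (Y.map f) ⟨y, hy, rfl⟩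
    have h3 : IsPGroup p D' :=
      (Cfsg.Agent.S4089.isPGroup_pcOf (p := p) (Y.map f)).comap_of_injective f hf
    have h4 := Cfsg.Agent.S4089.le_pcOf h1 h2 h3
    have h5 : D'.map f = (Cfsg.pCore p ↥(Y.map f)).map (Y.map f).subtype := by
      apply Subgroup.map_comap_eq_self
      refine le_trans hle ?_
      rintro _ ⟨y, -, rfl⟩
      exact ⟨y, rfl⟩
    rw [← h5]
    exact Subgroup.map_mono h4

theorem toGL_surjective (n : ℕ) :
    Function.Surjective (Matrix.SpecialLinearGroup.toGL :
      SLn n → Matrix.GeneralLinearGroup (Fin n) (ZMod 2)) := by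
  intro A
  have hdet : (A : Matrix (Fin n) (Fin n) (ZMod 2)).det = 1 := by
    have h1 : IsUnit (A : Matrix (Fin n) (Fin n) (ZMod 2)).det :=
      (Matrix.isUnit_iff_isUnit_det _).mp A.isUnit
    have key : ∀ a : ZMod 2, IsUnit a → a = 1 := by decide
    exact key _ h1
  refine ⟨⟨(A : Matrix (Fin n) (Fin n) (ZMod 2)), hdet⟩, ?_⟩
  apply Units.ext
  rfl

/-- `SL_n(2) ≃* GL_n(2)`. -/
noncomputable def slEquivGL (n : ℕ) : SLn n ≃* Matrix.GeneralLinearGroup (Fin n) (ZMod 2) :=
  MulEquiv.ofBijective Matrix.SpecialLinearGroup.toGL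
    ⟨Matrix.SpecialLinearGroup.toGL_injective, toGL_surjective n⟩

end Cfsg.Agent.Helper89.AGL
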