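import Mathlib
import Cfsg.Agent.Lib.Helper89.AGL.Transfer

set_option autoImplicit false
set_option linter.unusedSimpArgs false
set_option linter.unusedSectionVars false

namespace Cfsg.Agent.Helper89.AGL

open Matrix Cfsg.Agent.Helper89.TV Cfsg.Agent.Helper63 Cfsg.Agent.Helper89

theorem main {G : Type*} [Group G] [Finite G] {n : ℕ} (hn : 1 ≤ n) (S : Setup G n) {z : G}
    (hz : z ∈ S.U) (hz1 : S.c.e ⟨z, hz⟩ = Pi.single 0 1) (hU2 : IsPGroup 2 S.U)
    (Q : Subgroup G)
    (hQ : Q = (Cfsg.pCore 2 ↥(Subgroup.centralizer ({z} : Set G))).map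
      (Subgroup.centralizer ({z} : Set G)).subtype) :
    Cfsg.IsExtraspecial 2 ↥Q ∧ Nat.card ↥Q = 2 ^ (2 * n + 1) ∧
    (∃ E : Subgroup G, E ≤ Q ∧ Cfsg.IsElementaryAbelian 2 E ∧ Nat.card ↥E = 2 ^ (n + 1)) ∧
    Cfsg.IsLargeExtraspecial Q ∧
    ∃ K : Subgroup G, K ≤ Subgroup.centralizer ({z} : Set G) ∧ Q ⊓ K = ⊥ ∧
      Q ⊔ K = Subgroup.centralizer ({z} : Set G) ∧
      Nonempty (↥K ≃* Matrix.GeneralLinearGroup (Fin n) (ZMod 2)) := by
  have : Fact (Nat.Prime 2) := ⟨Nat.prime_two⟩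
  have hinj := S.Φ_injective
  have hz₀ : ((S.Φ z : SLx n) : Mx n) = Matrix.transvection 0 1 1 := S.Φ_z hz hz1
  have hC : (Subgroup.centralizer ({z} : Set G)).map S.Φ =
      Subgroup.centralizer ({S.Φ z} : Set (SLx n)) := S.map_centralizer hz hz1
  have hQmap : Q.map S.Φ = (qSL : Heis n (ZMod 2) →* SLx n).range := by
    rw [hQ, map_pcOf S.Φ hinj, hC]
    exact pcOf_C (S.Φ z) hz₀ hn
  have hQC : Q ≤ Subgroup.centralizer ({z} : Set G) := by
    rw [hQ]
    rintro _ ⟨x, -, rfl⟩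
    exact x.2
  have hrange_le : (qSL : Heis n (ZMod 2) →* SLx n).range ≤ S.Φ.range := by
    rw [← hQmap]
    rintro _ ⟨y, -, rfl⟩
    exact ⟨y, rfl⟩
  have hC_le : Subgroup.centralizer ({S.Φ z} : Set (SLx n)) ≤ S.Φ.range := by
    rw [← hC]
    rintro _ ⟨y, -, rfl⟩
    exact ⟨y, rfl⟩
  have mem_of_map : ∀ {X : Subgroup G} {x : G}, S.Φ x ∈ X.map S.Φ → x ∈ X := by
    intro X x hx
    obtain ⟨q, hq, hqx⟩ := hx
    rw [← hinj hqx]
    exact hq
  have hzQ : z ∈ Q := by
    apply mem_of_map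
    rw [hQmap]
    exact z_mem_range (S.Φ z) hz₀
  have hES₀ := isExtraspecial_range_qSL (n := n) hn
  have eQ : ↥Q ≃* ↥((qSL : Heis n (ZMod 2) →* SLx n).range) :=
    (Q.equivMapOfInjective S.Φ hinj).trans (MulEquiv.subgroupCongr hQmap)
  have hES : Cfsg.IsExtraspecial 2 ↥Q := isExtraspecial_of_mulEquiv eQ.symm hES₀
  have hcardQ : Nat.card ↥Q = 2 ^ (2 * n + 1) := by
    rw [Nat.card_congr eQ.toEquiv, card_range_qSL]
  -- centre and centralizer of Q
  have ha : Subgroup.zpowers z ≤ (Subgroup.center ↥Q).map Q.subtype := by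
    rw [Subgroup.zpowers_le]
    refine ⟨⟨z, hzQ⟩, ?_, rfl⟩
    rw [SetLike.mem_coe, Subgroup.mem_center_iff]
    intro q
    apply Subtype.ext
    exact Subgroup.mem_centralizer_singleton_iff.mp (hQC q.2)
  have hb : (Subgroup.center ↥Q).map Q.subtype ≤ Subgroup.centralizer (Q : Set G) := by
    rintro _ ⟨c, hc, rfl⟩
    rw [Subgroup.mem_centralizer_iff]
    intro q hq
    have := Subgroup.mem_center_iff.mp hc ⟨q, hq⟩
    exact congrArg Subtype.val this
  have hc : Subgroup.centralizer (Q : Set G) ≤ Subgroup.zpowers z := by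
    intro g hg
    apply one_or_self_mem_zpowers
    have h1 : S.Φ g = 1 ∨ S.Φ g = S.Φ z := by
      apply eq_one_or_z_of_centralizes (S.Φ z) hz₀
      intro q' hq'
      rw [← hQmap] at hq'
      obtain ⟨q, hq, rfl⟩ := hq'
      rw [← _root_.map_mul, ← _root_.map_mul, (Subgroup.mem_centralizer_iff.mp hg) q hq]
    rcases h1 with h1 | h1
    · left
      exact hinj (h1.trans (_root_.map_one _).symm)
    · right
      exact hinj h1
  have hcen : (Subgroup.center ↥Q).map Q.subtype = Subgroup.zpowers z :=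
    le_antisymm (hb.trans hc) ha
  have hL2 : Subgroup.centralizer (Q : Set G) = (Subgroup.center ↥Q).map Q.subtype :=
    le_antisymm (hc.trans ha) hb
  have hL3 : Subgroup.centralizer (((Subgroup.center ↥Q).map Q.subtype : Subgroup G) : Set G) ≤
      Subgroup.normalizer (Q : Set G) := by
    rw [hcen]
    intro g hg
    have hgC : g ∈ Subgroup.centralizer ({z} : Set G) := by
      rw [Subgroup.mem_centralizer_singleton_iff]
      exact ((Subgroup.mem_centralizer_iff.mp hg) z (Subgroup.mem_zpowers z)).symm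
    have := Cfsg.Agent.S4089.le_normalizer_pcOf (p := 2) (Subgroup.centralizer ({z} : Set G)) hgC
    rw [← hQ] at this
    exact this
  have hZle : (Subgroup.center ↥Q).map Q.subtype ≤ Cfsg.pCore 2 G := by
    rw [hcen, Subgroup.zpowers_le]
    exact Cfsg.Agent.Helper22.le_pCore S.normal hU2 hz
  refine ⟨hES, hcardQ, ?_, Cfsg.Agent.S5420.result Q hES hL2 hL3 hZle, ?_⟩
  · -- the elementary abelian subgroup
    set E₀ := (A0 n).map (qSL : Heis n (ZMod 2) →* SLx n) with hE₀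
    have hE₀le : E₀ ≤ (qSL : Heis n (ZMod 2) →* SLx n).range := by
      rintro _ ⟨x, _, rfl⟩
      exact ⟨x, rfl⟩
    have hEmap : (E₀.comap S.Φ).map S.Φ = E₀ :=
      Subgroup.map_comap_eq_self (hE₀le.trans hrange_le)
    refine ⟨E₀.comap S.Φ, ?_, ⟨⟨⟨?_⟩⟩, ?_⟩, ?_⟩
    · intro x hx
      apply mem_of_map
      rw [hQmap]
      exact hE₀le (Subgroup.mem_comap.mp hx)
    · rintro ⟨a, ha'⟩ ⟨b, hb'⟩
      apply Subtype.ext
      apply hinj
      show S.Φ (a * b) = S.Φ (b * a)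
      rw [_root_.map_mul, _root_.map_mul]
      have := (elementary_E (n := n)).1.1.is_comm.comm ⟨S.Φ a, Subgroup.mem_comap.mp ha'⟩
        ⟨S.Φ b, Subgroup.mem_comap.mp hb'⟩
      exact congrArg Subtype.val this
    · intro a ha'
      apply hinj
      rw [_root_.map_pow, _root_.map_one]
      exact (elementary_E (n := n)).1.2 _ (Subgroup.mem_comap.mp ha')
    · rw [← Subgroup.card_map_of_injective hinj, hEmap]
      exact (elementary_E (n := n)).2
  · -- the complement
    set K₀ := (sig : SLn n →* SLx n).range with hK₀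
    have hK₀le : K₀ ≤ Subgroup.centralizer ({S.Φ z} : Set (SLx n)) := range_sig_le (S.Φ z) hz₀
    have hKmap : (K₀.comap S.Φ).map S.Φ = K₀ :=
      Subgroup.map_comap_eq_self (hK₀le.trans hC_le)
    refine ⟨K₀.comap S.Φ, ?_, ?_, ?_, ?_⟩
    · intro x hx
      apply mem_of_map
      rw [hC]
      exact hK₀le (Subgroup.mem_comap.mp hx)
    · rw [eq_bot_iff]
      intro x hx
      rw [Subgroup.mem_bot]
      apply hinj
      rw [_root_.map_one]
      have h1 : S.Φ x ∈ (qSL : Heis n (ZMod 2) →* SLx n).range := by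
        rw [← hQmap]
        exact ⟨x, hx.1, rfl⟩
      have h2 : S.Φ x ∈ K₀ := Subgroup.mem_comap.mp hx.2
      have h3 : S.Φ x ∈ (qSL : Heis n (ZMod 2) →* SLx n).range ⊓ (sig : SLn n →* SLx n).range :=
        ⟨h1, h2⟩
      rw [range_inf, Subgroup.mem_bot] at h3
      exact h3
    · apply Subgroup.map_injective hinj
      rw [Subgroup.map_sup, hQmap, hKmap, hC]
      exact range_sup (S.Φ z) hz₀
    · have e1 : ↥(K₀.comap S.Φ) ≃* ↥K₀ :=
        ((K₀.comap S.Φ).equivMapOfInjective S.Φ hinj).trans (MulEquiv.subgroupCongr hKmap)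
      exact ⟨(e1.trans (MonoidHom.ofInjective sig_injective).symm).trans (slEquivGL n)⟩

end Cfsg.Agent.Helper89.AGL
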