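import Mathlib
import Cfsg.Agent.Lib.Helper89.AGL.Final

set_option autoImplicit false
set_option linter.unusedSimpArgs false
set_option linter.unusedSectionVars false

namespace Cfsg.Agent.Helper89.AGL

open Matrix Cfsg.Agent.Helper89.TV Cfsg.Agent.Helper63 Cfsg.Agent.Helper89

variable {G : Type*} [Group G] {n : ℕ}

namespace Coord

variable {U : Subgroup G} (c : Coord U n)

/-- The linear map induced on coordinates by an automorphism of `U`. -/
def autL (φ : ↥U ≃* ↥U) : Wn n →ₗ[ZMod 2] Wn n :=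
  AddMonoidHom.toZModLinearMap 2
    (AddMonoidHom.mk' (fun x => c.e (φ (c.e.symm x)))
      (fun x y => by rw [c.symm_add, _root_.map_mul, c.map_mul]))

theorem autL_apply (φ : ↥U ≃* ↥U) (x : Wn n) : c.autL φ x = c.e (φ (c.e.symm x)) := rfl

/-- The matrix of an automorphism of `U`. -/
def autMatHom : MulAut ↥U →* Mn n where
  toFun φ := LinearMap.toMatrix' (c.autL φ)
  map_one' := by
    rw [← LinearMap.toMatrix'_id]
    congr 1
    apply LinearMap.ext
    intro x
    rw [autL_apply, LinearMap.id_apply, MulAut.one_apply, Equiv.apply_symm_apply]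
  map_mul' φ ψ := by
    rw [← LinearMap.toMatrix'_comp]
    congr 1
    apply LinearMap.ext
    intro x
    simp only [LinearMap.comp_apply, autL_apply, MulAut.mul_apply, Equiv.symm_apply_apply]

theorem autMatHom_mulVec (φ : MulAut ↥U) (x : Wn n) :
    c.autMatHom φ *ᵥ x = c.e (φ (c.e.symm x)) := by
  show LinearMap.toMatrix' (c.autL φ) *ᵥ x = _
  rw [← Matrix.toLin'_apply, Matrix.toLin'_toMatrix', autL_apply]

theorem autMatHom_injective : Function.Injective c.autMatHom := by
  intro φ ψ h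
  ext u
  have h1 := c.autMatHom_mulVec φ (c.e u)
  rw [h, c.autMatHom_mulVec ψ (c.e u), Equiv.symm_apply_apply] at h1
  exact congrArg Subtype.val (c.e.injective h1).symm

include c in
theorem card_mulAut_le [Finite G] : Nat.card (MulAut ↥U) ≤ Nat.card (SLn (n + 1)) := by
  let f : MulAut ↥U →* (Mn n)ˣ := c.autMatHom.toHomUnits
  have hf : Function.Injective f := by
    intro φ ψ h
    apply c.autMatHom_injective
    have := congrArg Units.val h
    exact this
  let g : MulAut ↥U → SLn (n + 1) := fun φ => (slEquivGL (n + 1)).symm (f φ)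
  have hg : Function.Injective g := fun φ ψ h => hf ((slEquivGL (n + 1)).symm.injective h)
  exact Nat.card_le_card_of_injective g hg

end Coord

namespace Setup

variable (S : Setup G n)

theorem U_le_pcOf [Finite G] {z : G} (hz : z ∈ S.U) (hU2 : IsPGroup 2 S.U) :
    S.U ≤ (Cfsg.pCore 2 ↥(Subgroup.centralizer ({z} : Set G))).map
      (Subgroup.centralizer ({z} : Set G)).subtype := by
  have : Fact (Nat.Prime 2) := ⟨Nat.prime_two⟩
  apply Cfsg.Agent.S4089.le_pcOf
  · intro u hu
    rw [Subgroup.mem_centralizer_singleton_iff]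
    exact congrArg Subtype.val (S.comm ⟨u, hu⟩ ⟨z, hz⟩)
  · intro g _
    rw [Subgroup.normalizer_eq_top_iff.mpr S.normal]
    trivial
  · exact hU2

theorem exists_conj_ne (hn : 1 ≤ n) {z : G} (hz : z ∈ S.U)
    (hz1 : S.c.e ⟨z, hz⟩ = Pi.single 0 1) : ∃ g : G, g * z * g⁻¹ ≠ z := by
  have hk0 : 0 < n := hn
  set k0 : Fin n := ⟨0, hk0⟩ with hk0def
  set t : SLx n := Matrix.SpecialLinearGroup.transvection (mid_ne_zero k0) 1 with htdef
  have htcoe : (t : Mx n) = Matrix.transvection (mid k0) 0 1 := rfl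
  have htt : t * t = 1 := by
    apply Subtype.ext
    rw [Matrix.SpecialLinearGroup.coe_mul, htcoe,
      Matrix.transvection_mul_transvection_same _ _ (mid_ne_zero k0)]
    have : (1 : ZMod 2) + 1 = 0 := by decide
    rw [this, Matrix.transvection_zero]
    rfl
  have htinv : t⁻¹ = t := inv_eq_of_mul_eq_one_right htt
  have hrow : Row1 (t : Mx n) := by
    rw [htcoe, Matrix.transvection]
    refine ⟨?_, ?_, fun l => ?_⟩ <;>
      simp [Matrix.add_apply, Matrix.single_apply, one_10, one_11, one_1m, one_ne_mid,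
        (one_ne_mid _).symm, mid_ne_one]
  obtain ⟨g, hg⟩ := S.Φ_surj t hrow (by rw [htinv]; exact hrow)
  refine ⟨g, fun h => ?_⟩
  have hgC : g ∈ Subgroup.centralizer ({z} : Set G) := by
    rw [Subgroup.mem_centralizer_singleton_iff]
    rw [mul_inv_eq_iff_eq_mul] at h
    exact h
  have h2 : S.Φ g ∈ Subgroup.centralizer ({S.Φ z} : Set (SLx n)) := by
    rw [← S.map_centralizer hz hz1]
    exact ⟨g, hgC, rfl⟩
  have h3 := ((mem_C_iff _ (S.Φ_z hz hz1) (S.Φ g)).mp h2).1.2.2 k0
  rw [hg, htcoe, Matrix.transvection] at h3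
  simp [Matrix.add_apply, one_m0] at h3

end Setup

/-- The centralizer of `O₂(C(z))` is generated by `z`. -/
theorem centralizer_pcOf_le [Finite G] (hn : 1 ≤ n) (S : Setup G n) {z : G}
    (hz : z ∈ S.U) (hz1 : S.c.e ⟨z, hz⟩ = Pi.single 0 1) :
    Subgroup.centralizer ((((Cfsg.pCore 2 ↥(Subgroup.centralizer ({z} : Set G))).map
      (Subgroup.centralizer ({z} : Set G)).subtype : Subgroup G)) : Set G) ≤
      Subgroup.zpowers z := by
  have : Fact (Nat.Prime 2) := ⟨Nat.prime_two⟩
  have hinj := S.Φ_injective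
  have hz₀ : ((S.Φ z : SLx n) : Mx n) = Matrix.transvection 0 1 1 := S.Φ_z hz hz1
  have hC : (Subgroup.centralizer ({z} : Set G)).map S.Φ =
      Subgroup.centralizer ({S.Φ z} : Set (SLx n)) := S.map_centralizer hz hz1
  have hQmap : ((Cfsg.pCore 2 ↥(Subgroup.centralizer ({z} : Set G))).map
      (Subgroup.centralizer ({z} : Set G)).subtype).map S.Φ =
      (qSL : Heis n (ZMod 2) →* SLx n).range := by
    rw [map_pcOf S.Φ hinj, hC]
    exact pcOf_C (S.Φ z) hz₀ hn
  intro g hg
  apply one_or_self_mem_zpowers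
  have h1 : S.Φ g = 1 ∨ S.Φ g = S.Φ z := by
    apply eq_one_or_z_of_centralizes (S.Φ z) hz₀
    intro q' hq'
    rw [← hQmap] at hq'
    obtain ⟨q, hq, rfl⟩ := hq'
    rw [← _root_.map_mul, ← _root_.map_mul, (Subgroup.mem_centralizer_iff.mp hg) q hq]
  rcases h1 with h1 | h1
  · left
    exact hinj (h1.trans (_root_.map_one _).symm)
  · right
    exact hinj h1

end Cfsg.Agent.Helper89.AGL
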