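import Mathlib
import Cfsg.Agent.Lib.Helper89.AGL.Extra
import Cfsg.Agent.S5422

set_option autoImplicit false
set_option linter.unusedSimpArgs false
set_option linter.unusedSectionVars false

namespace Cfsg.Agent.Helper89.AGL

open Matrix Cfsg.Agent.Helper89.TV Cfsg.Agent.Helper63 Cfsg.Agent.Helper89

theorem isElementaryAbelian_map {G H : Type*} [Group G] [Group H] (f : G →* H) {p : ℕ}
    {E : Subgroup G} (hE : Cfsg.IsElementaryAbelian p E) : Cfsg.IsElementaryAbelian p (E.map f) := by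
  refine ⟨⟨⟨?_⟩⟩, ?_⟩
  · rintro ⟨_, a, ha, rfl⟩ ⟨_, b, hb, rfl⟩
    apply Subtype.ext
    show f a * f b = f b * f a
    rw [← _root_.map_mul, ← _root_.map_mul]
    congr 1
    exact congrArg Subtype.val (hE.1.is_comm.comm ⟨a, ha⟩ ⟨b, hb⟩)
  · rintro _ ⟨a, ha, rfl⟩
    rw [← _root_.map_pow, hE.2 a ha, _root_.map_one]

/-- The affine group `AGL_{n+1}(2)` sitting in an overgroup `H` that contains the whole centralizer
of a translation `z`: the structure of `C_H(z)` and largeness of `O₂(C_H(z))` in `H`. -/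
theorem main_over {G H : Type*} [Group G] [Finite G] [Group H] [Finite H] {n : ℕ} (hn : 2 ≤ n)
    (S : Setup G n) {z : G} (hz : z ∈ S.U) (hz1 : S.c.e ⟨z, hz⟩ = Pi.single 0 1)
    (hU2 : IsPGroup 2 S.U) (ι : G →* H) (hι : Function.Injective ι)
    (hCr : Subgroup.centralizer ({ι z} : Set H) ≤ ι.range) (Q : Subgroup H)
    (hQ : Q = (Cfsg.pCore 2 ↥(Subgroup.centralizer ({ι z} : Set H))).map
      (Subgroup.centralizer ({ι z} : Set H)).subtype) :
    Cfsg.IsExtraspecial 2 ↥Q ∧ Nat.card ↥Q = 2 ^ (2 * n + 1) ∧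
    (∃ E : Subgroup H, E ≤ Q ∧ Cfsg.IsElementaryAbelian 2 E ∧ Nat.card ↥E = 2 ^ (n + 1)) ∧
    Cfsg.IsLargeExtraspecial Q ∧
    ∃ K : Subgroup H, K ≤ Subgroup.centralizer ({ι z} : Set H) ∧ Q ⊓ K = ⊥ ∧
      Q ⊔ K = Subgroup.centralizer ({ι z} : Set H) ∧
      Nonempty (↥K ≃* Matrix.GeneralLinearGroup (Fin n) (ZMod 2)) := by
  have : Fact (Nat.Prime 2) := ⟨Nat.prime_two⟩
  have hn1 : 1 ≤ n := by omega
  set Q₀ : Subgroup G := (Cfsg.pCore 2 ↥(Subgroup.centralizer ({z} : Set G))).map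
      (Subgroup.centralizer ({z} : Set G)).subtype with hQ₀
  obtain ⟨r1, r2, ⟨E₀, hE₀Q, hE₀, hE₀card⟩, -, K₀, hK₀C, hK₀inf, hK₀sup, ⟨eK⟩⟩ :=
    main hn1 S hz hz1 hU2 Q₀ rfl
  have hcenQ₀ := centralizer_pcOf_le hn1 S hz hz1
  rw [← hQ₀] at hcenQ₀
  have hUQ₀ : S.U ≤ Q₀ := S.U_le_pcOf hz hU2
  obtain ⟨g₀, hg₀⟩ := S.exists_conj_ne hn1 hz hz1
  -- the centralizers correspond
  have hCmap : (Subgroup.centralizer ({z} : Set G)).map ι =
      Subgroup.centralizer ({ι z} : Set H) := by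
    apply le_antisymm
    · rintro _ ⟨c, hc, rfl⟩
      rw [SetLike.mem_coe, Subgroup.mem_centralizer_singleton_iff] at hc
      rw [Subgroup.mem_centralizer_singleton_iff, ← _root_.map_mul, ← _root_.map_mul, hc]
    · intro c hc
      obtain ⟨c₀, rfl⟩ := hCr hc
      refine ⟨c₀, ?_, rfl⟩
      rw [SetLike.mem_coe, Subgroup.mem_centralizer_singleton_iff]
      rw [Subgroup.mem_centralizer_singleton_iff, ← _root_.map_mul, ← _root_.map_mul] at hc
      exact hι hc
  have hQmap : Q₀.map ι = Q := by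
    rw [hQ, hQ₀, map_pcOf ι hι, hCmap]
  have hQC : Q ≤ Subgroup.centralizer ({ι z} : Set H) := by
    rw [hQ]
    rintro _ ⟨x, -, rfl⟩
    exact x.2
  have eQ : ↥Q₀ ≃* ↥Q := (Q₀.equivMapOfInjective ι hι).trans (MulEquiv.subgroupCongr hQmap)
  have hES : Cfsg.IsExtraspecial 2 ↥Q := isExtraspecial_of_mulEquiv eQ r1
  have hcardQ : Nat.card ↥Q = 2 ^ (2 * n + 1) := by
    rw [← Nat.card_congr eQ.toEquiv, r2]
  have hzQ₀ : z ∈ Q₀ := hUQ₀ hz
  have hzQ : ι z ∈ Q := by
    rw [← hQmap]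
    exact ⟨z, hzQ₀, rfl⟩
  have hz_ne : z ≠ 1 := by
    intro h
    have h1 : (⟨z, hz⟩ : ↥S.U) = 1 := Subtype.ext h
    rw [h1, S.c.map_one] at hz1
    have := congrFun hz1 0
    simp at this
  have hz_sq : z * z = 1 := by
    have h1 : S.c.e (⟨z, hz⟩ * ⟨z, hz⟩) = S.c.e 1 := by
      rw [S.c.map_mul, S.c.map_one]
      exact CharTwo.add_self_eq_zero _
    exact congrArg Subtype.val (S.c.e.injective h1)
  have hιz_sq : ι z * ι z = 1 := by rw [← _root_.map_mul, hz_sq, _root_.map_one]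
  have ha : Subgroup.zpowers (ι z) ≤ (Subgroup.center ↥Q).map Q.subtype := by
    rw [Subgroup.zpowers_le]
    refine ⟨⟨ι z, hzQ⟩, ?_, rfl⟩
    rw [SetLike.mem_coe, Subgroup.mem_center_iff]
    intro q
    apply Subtype.ext
    exact Subgroup.mem_centralizer_singleton_iff.mp (hQC q.2)
  have hb : (Subgroup.center ↥Q).map Q.subtype ≤ Subgroup.centralizer (Q : Set H) := by
    rintro _ ⟨c, hc, rfl⟩
    rw [Subgroup.mem_centralizer_iff]
    intro q hq
    have := Subgroup.mem_center_iff.mp hc ⟨q, hq⟩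
    exact congrArg Subtype.val this
  have hc : Subgroup.centralizer (Q : Set H) ≤ Subgroup.zpowers (ι z) := by
    intro g hg
    have hgC : g ∈ Subgroup.centralizer ({ι z} : Set H) := by
      rw [Subgroup.mem_centralizer_singleton_iff]
      exact ((Subgroup.mem_centralizer_iff.mp hg) (ι z) hzQ).symm
    obtain ⟨g', rfl⟩ := hCr hgC
    have hg' : g' ∈ Subgroup.centralizer (Q₀ : Set G) := by
      rw [Subgroup.mem_centralizer_iff]
      intro q hq
      apply hι
      rw [_root_.map_mul, _root_.map_mul]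
      apply (Subgroup.mem_centralizer_iff.mp hg)
      rw [SetLike.mem_coe, ← hQmap]
      exact ⟨q, hq, rfl⟩
    have := hcenQ₀ hg'
    rw [← MonoidHom.map_zpowers]
    exact ⟨g', this, rfl⟩
  have hcen : (Subgroup.center ↥Q).map Q.subtype = Subgroup.zpowers (ι z) :=
    le_antisymm (hb.trans hc) ha
  have hL2 : Subgroup.centralizer (Q : Set H) = (Subgroup.center ↥Q).map Q.subtype :=
    le_antisymm (hc.trans ha) hb
  have hL3 : Subgroup.centralizer (((Subgroup.center ↥Q).map Q.subtype : Subgroup H) : Set H) ≤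
      Subgroup.normalizer (Q : Set H) := by
    rw [hcen]
    intro g hg
    have hgC : g ∈ Subgroup.centralizer ({ι z} : Set H) := by
      rw [Subgroup.mem_centralizer_singleton_iff]
      exact ((Subgroup.mem_centralizer_iff.mp hg) (ι z) (Subgroup.mem_zpowers _)).symm
    have := Cfsg.Agent.S4089.le_normalizer_pcOf (p := 2) (Subgroup.centralizer ({ι z} : Set H)) hgC
    rw [← hQ] at this
    exact this
  have hconj : ι g₀ * ι z * (ι g₀)⁻¹ = ι (g₀ * z * g₀⁻¹) := by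
    rw [_root_.map_mul, _root_.map_mul, _root_.map_inv]
  have hLarge : Cfsg.IsLargeExtraspecial Q := by
    refine (Cfsg.Agent.S5422.result Q hES hL2 hL3 n hn hcardQ (ι g₀) ?_ ?_).2.2
    · rw [hcen]
      intro h
      have h1 := (Subgroup.mem_normalizer_iff.mp h (ι z)).mp (Subgroup.mem_zpowers _)
      rw [hconj] at h1
      rcases mem_zpowers_of_sq_eq_one hιz_sq h1 with e | e
      · have e' : g₀ * z * g₀⁻¹ = 1 := hι (e.trans (_root_.map_one ι).symm)
        apply hz_ne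
        have : z = g₀⁻¹ * (g₀ * z * g₀⁻¹) * g₀ := by group
        rw [this, e']
        group
      · exact hg₀ (hι e)
    · rw [hcen, MonoidHom.map_zpowers, Subgroup.zpowers_le]
      show ι g₀ * ι z * (ι g₀)⁻¹ ∈ Q
      rw [hconj, ← hQmap]
      exact ⟨_, hUQ₀ (S.normal.conj_mem z hz g₀), rfl⟩
  refine ⟨hES, hcardQ, ⟨E₀.map ι, ?_, isElementaryAbelian_map ι hE₀, ?_⟩, hLarge,
    K₀.map ι, ?_, ?_, ?_, ?_⟩
  · rw [← hQmap]
    exact Subgroup.map_mono hE₀Q
  · rw [Subgroup.card_map_of_injective hι, hE₀card]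
  · rw [← hCmap]
    exact Subgroup.map_mono hK₀C
  · rw [← hQmap, ← Subgroup.map_inf _ _ ι hι, hK₀inf, Subgroup.map_bot]
  · rw [← hQmap, ← Subgroup.map_sup, hK₀sup, hCmap]
  · exact ⟨(K₀.equivMapOfInjective ι hι).symm.trans eK⟩

end Cfsg.Agent.Helper89.AGL
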