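import Mathlib
import Cfsg.Agent.Lib.Helper89.AGL.Over

set_option autoImplicit false
set_option linter.unusedSimpArgs false
set_option linter.unusedSectionVars false

namespace Cfsg.Agent.Helper89.AGL

open Matrix Cfsg.Agent.Helper89.TV Cfsg.Agent.Helper63 Cfsg.Agent.Helper89

/-- A faithful complement of the right order induces the full automorphism group. -/
theorem full_of_card {G : Type*} [Group G] [Finite G] {n : ℕ} {U M : Subgroup G} [U.Normal]
    (c : Coord U n)
    (hfaith : ∀ m ∈ M, (∀ u ∈ U, m * u * m⁻¹ = u) → m = 1)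
    (hcard : Nat.card (SLn (n + 1)) ≤ Nat.card ↥M) :
    ∀ φ : ↥U ≃* ↥U, ∃ m ∈ M, ∀ u : ↥U, ((φ u : ↥U) : G) = m * u * m⁻¹ := by
  let f : ↥M →* MulAut ↥U := (MulAut.conjNormal).comp M.subtype
  have hf : Function.Injective f := by
    rw [injective_iff_map_eq_one]
    intro m hm
    have : (m : G) = 1 := hfaith m m.2 (fun u hu => by
      have h1 := congrArg (fun ψ : MulAut ↥U => ((ψ ⟨u, hu⟩ : ↥U) : G)) hm
      simpa [f, MulAut.conjNormal_apply] using h1)
    exact Subtype.ext this
  have hbij := hf.bijective_of_nat_card_le ((c.card_mulAut_le).trans hcard)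
  intro φ
  obtain ⟨m, hm⟩ := hbij.2 φ
  refine ⟨m, m.2, fun u => ?_⟩
  rw [← hm]
  exact MulAut.conjNormal_apply _ _

end Cfsg.Agent.Helper89.AGL
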